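import Mathlib

/-!
# Lifting a finite birational extension along an isomorphism of thickenings
-/

set_option autoImplicit false
set_option synthInstance.maxHeartbeats 400000
set_option maxHeartbeats 1000000
universe u

namespace LiftQuot24

variable {A' A : Type u} [CommRing A'] [CommRing A] [Algebra A' A] [Module.Finite A' A] (f : A')

/-- A uniform conductor exponent. -/
theorem exists_conductor (hloc : Function.Bijective (IsLocalization.Away.map (Localization.Away f)
      (Localization.Away (algebraMap A' A f)) (algebraMap A' A) f)) :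
    ∃ c : ℕ, ∀ a : A, ∃ x : A', algebraMap A' A x = algebraMap A' A f ^ c * a := by
  classical
  have h1 : ∀ a : A, ∃ c, ∀ k ≥ c, ∃ x : A', algebraMap A' A x = algebraMap A' A f ^ k * a := by
    intro a
    obtain ⟨z, hz⟩ := hloc.2 (algebraMap A (Localization.Away (algebraMap A' A f)) a)
    obtain ⟨⟨x, ⟨_, m, rfl⟩⟩, hzm⟩ := IsLocalization.surj (Submonoid.powers f) z
    dsimp only at hzm
    have h2 := congrArg (IsLocalization.Away.map (Localization.Away f)
      (Localization.Away (algebraMap A' A f)) (algebraMap A' A) f) hzm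
    rw [map_mul, hz, IsLocalization.Away.map, IsLocalization.map_eq, IsLocalization.map_eq, ← map_mul,
      IsLocalization.eq_iff_exists (Submonoid.powers (algebraMap A' A f))] at h2
    obtain ⟨⟨_, l, rfl⟩, hl⟩ := h2
    dsimp only at hl
    refine ⟨l + m, fun k hk => ⟨f ^ (k - m) * x, ?_⟩⟩
    rw [map_pow] at hl
    rw [map_mul, map_pow, show k - m = (k - (l + m)) + l by omega, pow_add, mul_assoc, ← hl,
      ← mul_assoc, ← pow_add, mul_comm a, ← mul_assoc, ← pow_add]
    congr 2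
    omega
  choose c hc using h1
  obtain ⟨s, hs⟩ := ‹Module.Finite A' A›.fg_top
  refine ⟨s.sup c, fun a => ?_⟩
  have ha : a ∈ Submodule.span A' (s : Set A) := hs ▸ trivial
  induction ha using Submodule.span_induction with
  | mem x hx => exact hc x _ (Finset.le_sup hx)
  | zero => exact ⟨0, by rw [map_zero, mul_zero]⟩
  | add x y _ _ hx hy =>
    obtain ⟨u, hu⟩ := hx
    obtain ⟨v, hv⟩ := hy
    exact ⟨u + v, by rw [map_add, hu, hv, mul_add]⟩
  | smul r x _ hx =>
    obtain ⟨u, hu⟩ := hx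
    exact ⟨r * u, by rw [map_mul, hu, Algebra.smul_def]; ring⟩

theorem exists_lift (hinj : Function.Injective (algebraMap A' A))
    (hf : algebraMap A' A f ∈ nonZeroDivisors A)
    (hloc : Function.Bijective (IsLocalization.Away.map (Localization.Away f)
      (Localization.Away (algebraMap A' A f)) (algebraMap A' A) f)) :
    ∃ n₀ : ℕ, 0 < n₀ ∧ ∀ n : ℕ, n₀ ≤ n →
      ∀ (B' : Type u) [CommRing B'] (g : B'), g ∈ nonZeroDivisors B' →
        ∀ φ' : (A' ⧸ Ideal.span {f ^ n}) ≃+* (B' ⧸ Ideal.span {g ^ n}),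
        φ' (Ideal.Quotient.mk (Ideal.span {f ^ n}) f) = Ideal.Quotient.mk (Ideal.span {g ^ n}) g →
        ∃ (B : Type u) (_ : CommRing B) (_ : Algebra B' B),
          Function.Injective (algebraMap B' B) ∧ Module.Finite B' B ∧
          ∃ φ : (A ⧸ Ideal.span {algebraMap A' A f}) ≃+* (B ⧸ Ideal.span {algebraMap B' B g}),
            ∀ (a' : A') (b' : B'),
              φ' (Ideal.Quotient.mk (Ideal.span {f ^ n}) a') = Ideal.Quotient.mk (Ideal.span {g ^ n}) b' →
              φ (Ideal.Quotient.mk (Ideal.span {algebraMap A' A f}) (algebraMap A' A a')) =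
                Ideal.Quotient.mk (Ideal.span {algebraMap B' B g}) (algebraMap B' B b') := by
  classical
  obtain ⟨c, hc⟩ := exists_conductor f hloc
  choose j hj using hc
  set F := algebraMap A' A f
  have j_add : ∀ a b, j (a + b) = j a + j b := fun a b => hinj (by rw [map_add, hj, hj, hj, mul_add])
  have j_mul : ∀ a b, j a * j b = f ^ c * j (a * b) := fun a b => hinj (by
    rw [map_mul, map_mul, map_pow, hj, hj, hj]; ring)
  have j_map : ∀ x a, j (algebraMap A' A x * a) = x * j a := fun x a => hinj (by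
    rw [map_mul, hj, hj]; ring)
  have j_alg : ∀ x, j (algebraMap A' A x) = f ^ c * x := fun x => hinj (by rw [map_mul, map_pow, hj])
  refine ⟨2 * c + 1, Nat.succ_pos _, fun n hn B' _ g hg φ' hφ' => ?_⟩
  let q : A' →+* B' ⧸ Ideal.span {g ^ n} := φ'.toRingHom.comp (Ideal.Quotient.mk _)
  have hqsurj : Function.Surjective q := φ'.surjective.comp Ideal.Quotient.mk_surjective
  have hqpow : ∀ k, q (f ^ k) = Ideal.Quotient.mk (Ideal.span {g ^ n}) (g ^ k) := fun k => by
    rw [map_pow, map_pow]; exact congrArg (· ^ k) hφ'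
  have hqker : ∀ x y, q x = q y → ∃ t, x - y = f ^ n * t := fun x y h =>
    Ideal.mem_span_singleton.mp (Ideal.Quotient.eq.mp (φ'.injective h))
  have hmkker : ∀ x y : B', Ideal.Quotient.mk (Ideal.span {g ^ n}) x =
      Ideal.Quotient.mk (Ideal.span {g ^ n}) y → ∃ t, x - y = g ^ n * t := fun x y h =>
    Ideal.mem_span_singleton.mp (Ideal.Quotient.eq.mp h)
  choose lift hlift using fun a : A => Ideal.Quotient.mk_surjective (q (j a))
  let J : Ideal B' :=
    { carrier := {b | ∃ a, Ideal.Quotient.mk (Ideal.span {g ^ n}) b = q (j a)}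
      add_mem' := by
        rintro b₁ b₂ ⟨a₁, h₁⟩ ⟨a₂, h₂⟩
        exact ⟨a₁ + a₂, by rw [map_add, h₁, h₂, j_add, map_add]⟩
      zero_mem' := ⟨0, by
        rw [map_zero, show (0 : A) = algebraMap A' A 0 from (map_zero _).symm, j_alg, mul_zero, map_zero]⟩
      smul_mem' := by
        rintro r b ⟨a, h⟩
        obtain ⟨x, hx⟩ := hqsurj (Ideal.Quotient.mk _ r)
        exact ⟨algebraMap A' A x * a, by rw [smul_eq_mul, map_mul, h, ← hx, ← map_mul, j_map]⟩ }
  have hJpow : ∀ k, c ≤ k → g ^ k ∈ J := fun k hk => ⟨algebraMap A' A (f ^ (k - c)), by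
    rw [j_alg, ← pow_add, Nat.add_sub_cancel' hk, hqpow]⟩
  have hJfg : J.FG := by
    obtain ⟨s, hs⟩ := ‹Module.Finite A' A›.fg_top
    refine ⟨insert (g ^ n) (s.image lift), le_antisymm (Ideal.span_le.mpr ?_) ?_⟩
    · intro b hb
      rw [Finset.coe_insert, Finset.coe_image] at hb
      rcases hb with rfl | ⟨a, -, rfl⟩
      · exact hJpow n (by omega)
      · exact ⟨a, hlift a⟩
    · rintro b ⟨a, hba⟩
      have key : ∀ a : A, ∃ b₀ ∈ Ideal.span ((insert (g ^ n) (s.image lift) : Finset B') : Set B'),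
          Ideal.Quotient.mk (Ideal.span {g ^ n}) b₀ = q (j a) := by
        intro a
        have ha : a ∈ Submodule.span A' (s : Set A) := hs ▸ trivial
        induction ha using Submodule.span_induction with
        | mem x hx => exact ⟨lift x, Ideal.subset_span (Finset.mem_coe.mpr
            (Finset.mem_insert_of_mem (Finset.mem_image_of_mem _ hx))), hlift x⟩
        | zero => exact ⟨0, Ideal.zero_mem _, by
            rw [map_zero, show (0 : A) = algebraMap A' A 0 from (map_zero _).symm, j_alg, mul_zero, map_zero]⟩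
        | add x y _ _ hx hy =>
          obtain ⟨u, hu, hu'⟩ := hx
          obtain ⟨v, hv, hv'⟩ := hy
          exact ⟨u + v, Ideal.add_mem _ hu hv, by rw [map_add, hu', hv', j_add, map_add]⟩
        | smul r x _ hx =>
          obtain ⟨u, hu, hu'⟩ := hx
          obtain ⟨r', hr'⟩ := Ideal.Quotient.mk_surjective (q r)
          exact ⟨r' * u, Ideal.mul_mem_left _ _ hu, by
            rw [map_mul, hu', hr', ← map_mul, Algebra.smul_def, j_map]⟩
      obtain ⟨b₀, hb₀, hb₀'⟩ := key a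
      obtain ⟨t, ht⟩ := hmkker b b₀ (hba.trans hb₀'.symm)
      rw [eq_add_of_sub_eq ht]
      exact Ideal.add_mem _ (Ideal.mul_mem_right _ _ (Ideal.subset_span (Finset.mem_coe.mpr
        (Finset.mem_insert_self _ _)))) hb₀
  -- the ring `B = g ^ (-c) J`
  let Bg := Localization.Away g
  have hBg : Function.Injective (algebraMap B' Bg) :=
    IsLocalization.injective Bg (Submonoid.powers_le.mpr hg)
  obtain ⟨γ, hγ⟩ := (IsLocalization.Away.algebraMap_isUnit g : IsUnit (algebraMap B' Bg g))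
  have hγc : IsUnit (algebraMap B' Bg (g ^ c)) := by rw [map_pow, ← hγ]; exact (γ ^ c).isUnit
  have mul_J : ∀ b₁ ∈ J, ∀ b₂ ∈ J, ∀ a₁ a₂ : A, Ideal.Quotient.mk (Ideal.span {g ^ n}) b₁ = q (j a₁) →
      Ideal.Quotient.mk (Ideal.span {g ^ n}) b₂ = q (j a₂) →
      ∃ b₀ t, b₁ * b₂ = g ^ c * (b₀ + g ^ (n - c) * t) ∧
        Ideal.Quotient.mk (Ideal.span {g ^ n}) b₀ = q (j (a₁ * a₂)) := by
    intro b₁ _ b₂ _ a₁ a₂ h₁ h₂
    obtain ⟨t, ht⟩ := hmkker (b₁ * b₂) (g ^ c * lift (a₁ * a₂)) (by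
      rw [map_mul, h₁, h₂, ← map_mul, j_mul, map_mul, hqpow, map_mul, hlift])
    refine ⟨lift (a₁ * a₂), t, ?_, hlift _⟩
    rw [eq_add_of_sub_eq ht, mul_add, ← mul_assoc, ← pow_add, Nat.add_sub_cancel' (by omega : c ≤ n)]
    ring
  let B : Subalgebra B' Bg :=
    { carrier := {x | ∃ b ∈ J, algebraMap B' Bg (g ^ c) * x = algebraMap B' Bg b}
      mul_mem' := by
        rintro x y ⟨b₁, hb₁, hx⟩ ⟨b₂, hb₂, hy⟩
        obtain ⟨a₁, ha₁⟩ := hb₁
        obtain ⟨a₂, ha₂⟩ := hb₂
        obtain ⟨b₀, t, hb, hb₀⟩ := mul_J b₁ ⟨a₁, ha₁⟩ b₂ ⟨a₂, ha₂⟩ a₁ a₂ ha₁ ha₂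
        refine ⟨b₀ + g ^ (n - c) * t, J.add_mem ⟨_, hb₀⟩ (J.mul_mem_right _ (hJpow _ (by omega))), ?_⟩
        refine hγc.mul_left_cancel ?_
        rw [← map_mul _ (g ^ c) (b₀ + _), ← hb, map_mul, ← hx, ← hy]
        ring
      add_mem' := by
        rintro x y ⟨b₁, hb₁, hx⟩ ⟨b₂, hb₂, hy⟩
        exact ⟨b₁ + b₂, J.add_mem hb₁ hb₂, by rw [mul_add, hx, hy, map_add]⟩
      algebraMap_mem' := fun r => ⟨g ^ c * r, J.mul_mem_right _ (hJpow c le_rfl), by rw [map_mul]⟩ }
  let toB : J →ₗ[B'] B :=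
    { toFun := fun b => ⟨↑hγc.unit⁻¹ * algebraMap B' Bg b, b, b.2, by
        rw [← mul_assoc, hγc.mul_val_inv, one_mul]⟩
      map_add' := fun x y => Subtype.ext (by simp [mul_add])
      map_smul' := fun r x => Subtype.ext (by simp [Algebra.smul_def, mul_left_comm]) }
  have toB_surj : Function.Surjective toB := by
    rintro ⟨x, b, hb, hx⟩
    refine ⟨⟨b, hb⟩, Subtype.ext ?_⟩
    show ↑hγc.unit⁻¹ * algebraMap B' Bg b = x
    rw [← hx, ← mul_assoc, hγc.val_inv_mul, one_mul]
  have : Module.Finite B' J := Module.Finite.of_fg hJfg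
  refine ⟨B, inferInstance, inferInstance,
    fun x y h => hBg (congrArg Subtype.val h), Module.Finite.of_surjective toB toB_surj, ?_⟩
  set gB := algebraMap B' B g
  let mkB := Ideal.Quotient.mk (Ideal.span {gB})
  have hval : ∀ b (hb : b ∈ J), algebraMap B' Bg (g ^ c) * (toB ⟨b, hb⟩ : Bg) = algebraMap B' Bg b :=
    fun b hb => by
      show _ * (↑hγc.unit⁻¹ * algebraMap B' Bg b) = _
      rw [← mul_assoc, hγc.mul_val_inv, one_mul]
  have hmulg : ∀ (b : B') (hb : b ∈ J) (r : B') (k : ℕ), k ≠ 0 → b = g ^ c * (g ^ k * r) →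
      mkB (toB ⟨b, hb⟩) = 0 := fun b hb r k hk hbeq => by
    rw [Ideal.Quotient.eq_zero_iff_mem, Ideal.mem_span_singleton]
    refine ⟨algebraMap B' B (g ^ (k - 1) * r), Subtype.ext (hγc.mul_left_cancel ?_)⟩
    rw [hval]
    show algebraMap B' Bg b =
      algebraMap B' Bg (g ^ c) * (algebraMap B' Bg g * algebraMap B' Bg (g ^ (k - 1) * r))
    rw [← map_mul, ← map_mul, ← mul_assoc g, ← pow_succ', Nat.sub_add_cancel (Nat.pos_of_ne_zero hk), hbeq]
  have hwell : ∀ (a : A) (b : B') (hb : b ∈ J), Ideal.Quotient.mk (Ideal.span {g ^ n}) b = q (j a) →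
      mkB (toB ⟨b, hb⟩) = mkB (toB ⟨lift a, a, hlift a⟩) := fun a b hb h => by
    obtain ⟨t, ht⟩ := hmkker b (lift a) (h.trans (hlift a).symm)
    rw [← sub_eq_zero, ← map_sub, ← map_sub]
    refine hmulg _ _ t (n - c) (by omega) ?_
    show b - lift a = _
    rw [ht, ← mul_assoc, ← pow_add, Nat.add_sub_cancel' (by omega : c ≤ n)]
  let ψ : A →+* B ⧸ Ideal.span {gB} :=
    { toFun := fun a => mkB (toB ⟨lift a, a, hlift a⟩)
      map_one' := by
        have h1 : Ideal.Quotient.mk (Ideal.span {g ^ n}) (g ^ c) = q (j 1) := by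
          rw [← map_one (algebraMap A' A), j_alg, mul_one, hqpow]
        rw [← hwell 1 (g ^ c) ⟨1, h1⟩ h1, ← map_one mkB]
        refine congrArg mkB (Subtype.ext (hγc.mul_left_cancel ?_))
        rw [hval, OneMemClass.coe_one, mul_one]
      map_mul' := fun a₁ a₂ => by
        obtain ⟨b₀, t, hb, hb₀⟩ := mul_J _ ⟨a₁, hlift a₁⟩ _ ⟨a₂, hlift a₂⟩ a₁ a₂ (hlift a₁) (hlift a₂)
        have hz : g ^ (n - c) * t ∈ J := J.mul_mem_right _ (hJpow _ (by omega))
        rw [← hwell _ b₀ ⟨_, hb₀⟩ hb₀, ← map_mul]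
        have hprod : toB ⟨lift a₁, a₁, hlift a₁⟩ * toB ⟨lift a₂, a₂, hlift a₂⟩ =
            toB ⟨b₀, _, hb₀⟩ + toB ⟨g ^ (n - c) * t, hz⟩ := by
          rw [← map_add]
          refine Subtype.ext (hγc.mul_left_cancel (hγc.mul_left_cancel ?_))
          rw [show (⟨b₀, _, hb₀⟩ : J) + ⟨g ^ (n - c) * t, hz⟩ =
            ⟨b₀ + g ^ (n - c) * t, J.add_mem ⟨_, hb₀⟩ hz⟩ from rfl, hval, ← map_mul (algebraMap B' Bg) (g ^ c) (b₀ + _), ← hb, map_mul,
            ← hval (lift a₁) ⟨a₁, hlift a₁⟩, ← hval (lift a₂) ⟨a₂, hlift a₂⟩, MulMemClass.coe_mul]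
          ring
        rw [hprod, map_add, hmulg _ hz t (n - 2 * c) (by omega) (by
          rw [← mul_assoc, ← pow_add]; congr 2; omega), add_zero]
      map_zero' := by
        have h1 : Ideal.Quotient.mk (Ideal.span {g ^ n}) 0 = q (j 0) := by
          rw [← map_zero (algebraMap A' A), j_alg, mul_zero, map_zero, map_zero]
        rw [← hwell 0 0 ⟨0, h1⟩ h1, show (⟨0, ⟨0, h1⟩⟩ : J) = 0 from rfl, map_zero, map_zero]
      map_add' := fun a₁ a₂ => by
        have h1 : Ideal.Quotient.mk (Ideal.span {g ^ n}) (lift a₁ + lift a₂) = q (j (a₁ + a₂)) := by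
          rw [map_add, hlift, hlift, j_add, map_add]
        rw [← hwell _ (lift a₁ + lift a₂) ⟨_, h1⟩ h1, ← map_add, ← map_add]
        rfl }
  have hψsurj : Function.Surjective ψ := by
    intro y
    obtain ⟨x, rfl⟩ := Ideal.Quotient.mk_surjective y
    obtain ⟨⟨b, a, ha⟩, rfl⟩ := toB_surj x
    exact ⟨a, (hwell a b ⟨a, ha⟩ ha).symm⟩
  have hψker : RingHom.ker ψ = Ideal.span {F} := by
    refine le_antisymm (fun a ha => ?_) ((Ideal.span_singleton_le_iff_mem _).mpr ?_)
    · rw [RingHom.mem_ker] at ha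
      obtain ⟨x, hx⟩ := Ideal.mem_span_singleton.mp (Ideal.Quotient.eq_zero_iff_mem.mp ha)
      obtain ⟨⟨b, a', ha'⟩, rfl⟩ := toB_surj x
      have hb : lift a = g * b := hBg (by
        rw [map_mul, ← hval (lift a) ⟨a, hlift a⟩, ← hval b ⟨a', ha'⟩, hx, MulMemClass.coe_mul,
          mul_left_comm]
        rfl)
      have hq : q (j a) = q (j (F * a')) := by
        rw [j_map, map_mul, ← hlift, hb, map_mul, ha', ← pow_one f, hqpow, pow_one]
      obtain ⟨t, ht⟩ := hqker _ _ hq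
      refine Ideal.mem_span_singleton.mpr ⟨a' + F ^ (n - c - 1) * algebraMap A' A t, ?_⟩
      have ht' := congrArg (algebraMap A' A) ht
      rw [map_sub, map_mul, map_pow, hj, hj] at ht'
      refine ((IsRegular.pow c (isRegular_iff_mem_nonZeroDivisors.mpr hf)).left : _) ?_
      show F ^ c * a = F ^ c * (F * (a' + F ^ (n - c - 1) * algebraMap A' A t))
      have hpow : F ^ c * (F * F ^ (n - c - 1)) = F ^ n := by
        rw [← pow_succ', ← pow_add]; congr 1; omega
      linear_combination ht' - algebraMap A' A t * hpow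
    · rw [RingHom.mem_ker]
      have h1 : Ideal.Quotient.mk (Ideal.span {g ^ n}) (g ^ c * g) = q (j F) := by
        rw [j_alg, map_mul, map_mul, hqpow, ← pow_one f, hqpow, pow_one]
      show mkB (toB ⟨lift F, F, hlift F⟩) = 0
      rw [← hwell F (g ^ c * g) ⟨_, h1⟩ h1]
      exact hmulg _ _ 1 1 one_ne_zero (by rw [pow_one, mul_one])
  refine ⟨(Ideal.quotEquivOfEq hψker.symm).trans (RingHom.quotientKerEquivOfSurjective hψsurj), ?_⟩
  intro a' b' hab
  show ψ (algebraMap A' A a') = _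
  have h1 : Ideal.Quotient.mk (Ideal.span {g ^ n}) (g ^ c * b') = q (j (algebraMap A' A a')) := by
    rw [j_alg, map_mul, map_mul, hqpow, ← hab]
    rfl
  show mkB (toB ⟨lift (algebraMap A' A a'), _, hlift _⟩) = _
  rw [← hwell _ (g ^ c * b') ⟨_, h1⟩ h1]
  refine congrArg mkB (Subtype.ext (hγc.mul_left_cancel ?_))
  rw [hval, map_mul]
  rfl

end LiftQuot24
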